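import Cfsg.Agent.H691.AN.Defs
import Cfsg.Agent.H424.DegTools
import Cfsg.Agent.S0187

/-!
# S4766, piece C3: the socle of `G / Sol(G)` (helper212)

`c3_socle` (inputs: the statements of C1 and C2).
-/

set_option autoImplicit false
set_option linter.unusedSectionVars false

namespace Cfsg.Agent.H212.AN

open Cfsg Cfsg.Agent.H691.AN Cfsg.Agent.Characters.Core
open Cfsg.Agent.H424.DegTools

universe u

variable {Y : Type u} [Group Y] [Finite Y]

/-- a nontrivial normal subgroup contains a minimal normal subgroup -/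
theorem exists_min (K : Subgroup Y) (hK : K.Normal) (hne : K ≠ ⊥) :
    ∃ W : Subgroup Y, W ≤ K ∧ W.Normal ∧ W ≠ ⊥ ∧ ∀ L : Subgroup Y, L.Normal → L ≤ W → L = ⊥ ∨ L = W := by
  obtain ⟨W, hW⟩ := (Set.toFinite {L : Subgroup Y | L.Normal ∧ L ≠ ⊥ ∧ L ≤ K}).exists_minimal ⟨K, hK, hne, le_rfl⟩
  refine ⟨W, hW.prop.2.2, hW.prop.1, hW.prop.2.1, fun L hL hLW => ?_⟩
  by_cases h : L = ⊥
  · exact Or.inl h
  · right
    exact le_antisymm hLW (hW.le_of_le ⟨hL, h, hLW.trans hW.prop.2.2⟩ hLW)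

theorem comm_of_degrees {G : Type u} [Group G] [Finite G] (h : ∀ d ∈ charDegrees G, d = 1) (a b : G) :
    a * b = b * a := by
  have h1 : ∀ a b : G, a * b = b * a := by
    rw [S0187.result]
    intro χ
    obtain ⟨n, hn⟩ := isCharacter_apply_one (isIrr_isCharacter χ.2)
    rw [hn, h n (mem_charDegrees.2 ⟨χ, χ.2, hn⟩), Nat.cast_one]
  exact h1 a b

/-- a nonabelian simple normal subgroup meets its centralizer trivially -/
theorem inf_cent {W : Subgroup Y} (hs : IsSimpleGroup W) (hna : ¬ IsMulCommutative W) :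
    W ⊓ Subgroup.centralizer (W : Set Y) = ⊥ := by
  have hz : Subgroup.center W = ⊥ := by
    rcases hs.eq_bot_or_eq_top_of_normal (Subgroup.center W) inferInstance with h | h
    · exact h
    · exfalso
      apply hna
      refine ⟨⟨fun a b => ?_⟩⟩
      have ha : b ∈ Subgroup.center W := by rw [h]; trivial
      exact Subgroup.mem_center_iff.1 ha a
  rw [eq_bot_iff]
  rintro x ⟨hx, hxc⟩
  have h1 : (⟨x, hx⟩ : W) ∈ Subgroup.center W := by
    rw [Subgroup.mem_center_iff]
    intro g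
    exact Subtype.ext (Subgroup.mem_centralizer_iff.1 hxc g g.2)
  rw [hz, Subgroup.mem_bot] at h1
  exact congrArg Subtype.val h1

section

variable {n : ℕ}
  (hC1 : ∀ {A : Type u} [Group A] [Finite A] {S : Subgroup A}, AlmostSimple A S → charDegrees A ⊆ D n →
    Nonempty (S ≃* An n))

include hC1

/-- a nonabelian simple normal subgroup is isomorphic to `A_n` -/
theorem equiv_of_simple (h : charDegrees Y ⊆ D n) {W : Subgroup Y} (hW : W.Normal) (hs : IsSimpleGroup W)
    (hna : ¬ IsMulCommutative W) : Nonempty (W ≃* An n) := by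
  set C : Subgroup Y := Subgroup.centralizer (W : Set Y) with hC
  have hCn : C.Normal := by rw [hC]; infer_instance
  have hinf : W ⊓ C = ⊥ := inf_cent hs hna
  let f : W →* W.map (QuotientGroup.mk' C) := (QuotientGroup.mk' C).subgroupMap W
  have hsurj : Function.Surjective f := (QuotientGroup.mk' C).subgroupMap_surjective W
  have hinj : Function.Injective f := by
    rw [injective_iff_map_eq_one]
    intro x hx
    have h1 : (QuotientGroup.mk' C) (x : Y) = 1 := congrArg Subtype.val hx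
    have h2 : (x : Y) ∈ C := (QuotientGroup.eq_one_iff _).1 h1
    have h3 : (x : Y) ∈ W ⊓ C := ⟨x.2, h2⟩
    rw [hinf, Subgroup.mem_bot] at h3
    exact Subtype.ext h3
  let e : W ≃* W.map (QuotientGroup.mk' C) := MulEquiv.ofBijective f ⟨hinj, hsurj⟩
  have hA : AlmostSimple (Y ⧸ C) (W.map (QuotientGroup.mk' C)) := by
    refine ⟨hW.map _ (QuotientGroup.mk'_surjective C), ?_, ?_, ?_⟩
    · have : Nontrivial (W.map (QuotientGroup.mk' C)) := e.symm.toEquiv.nontrivial
      exact IsSimpleGroup.isSimpleGroup_of_surjective (f : W →* _) hsurj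
    · intro hc
      apply hna
      refine ⟨⟨fun a b => e.injective ?_⟩⟩
      rw [map_mul, map_mul]
      exact hc.is_comm.comm _ _
    · rw [eq_bot_iff]
      intro x hx
      obtain ⟨y, rfl⟩ := QuotientGroup.mk'_surjective C x
      rw [Subgroup.mem_bot]
      refine (QuotientGroup.eq_one_iff _).2 ?_
      rw [hC, Subgroup.mem_centralizer_iff]
      intro w hw
      have h1 := Subgroup.mem_centralizer_iff.1 hx _ ⟨w, hw, rfl⟩
      rw [← map_mul, ← map_mul, QuotientGroup.mk'_apply, QuotientGroup.mk'_apply, QuotientGroup.eq] at h1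
      -- `(w y)⁻¹ (y w) ∈ C ⊓ W`
      have h2 : (w * y)⁻¹ * (y * w) ∈ W := by
        have h3 : (w * y)⁻¹ * (y * w) = y⁻¹ * w⁻¹ * y * w := by group
        rw [h3]
        refine W.mul_mem ?_ hw
        have := hW.conj_mem _ (W.inv_mem hw) y⁻¹
        rwa [inv_inv] at this
      have h4 : (w * y)⁻¹ * (y * w) ∈ W ⊓ C := ⟨h2, h1⟩
      rw [hinf, Subgroup.mem_bot, inv_mul_eq_one] at h4
      exact h4
  obtain ⟨e'⟩ := hC1 hA ((charDegrees_of_surjective (QuotientGroup.mk' C) (QuotientGroup.mk'_surjective C)).trans h)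
  exact ⟨e.trans e'⟩

/-- C3 -/
theorem c3_socle
    (hC2 : ∀ {Y : Type u} [Group Y] [Finite Y], charDegrees Y ⊆ D n → ∀ W : Subgroup Y, W.Normal → W ≠ ⊥ →
      (∀ K : Subgroup Y, K.Normal → K ≤ W → K = ⊥ ∨ K = W) → ¬ IsMulCommutative W → IsSimpleGroup W)
    [Nontrivial Y] (h : charDegrees Y ⊆ D n)
    (hrad : ∀ K : Subgroup Y, K.Normal → Group.IsSolvable K → K = ⊥) :
    ∃ S : Subgroup Y, S.Normal ∧ Nonempty (S ≃* An n) ∧ Subgroup.centralizer (S : Set Y) = ⊥ := by
  have hnab : ∀ W : Subgroup Y, W.Normal → W ≠ ⊥ → ¬ IsMulCommutative W := by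
    intro W hW hne hc
    exact hne (hrad W hW (Group.isSolvable_of_comm fun a b => hc.is_comm.comm a b))
  have key : ∀ K : Subgroup Y, K.Normal → K ≠ ⊥ → ∃ W : Subgroup Y, W ≤ K ∧ W.Normal ∧ IsSimpleGroup W ∧
      ¬ IsMulCommutative W := by
    intro K hK hne
    obtain ⟨W, hWK, hW, hW0, hmin⟩ := exists_min K hK hne
    exact ⟨W, hWK, hW, hC2 h W hW hW0 hmin (hnab W hW hW0), hnab W hW hW0⟩
  obtain ⟨W, -, hW, hs, hna⟩ := key ⊤ inferInstance (by
    intro h1
    exact (Subgroup.nontrivial_iff_ne_bot ⊤).1 inferInstance h1)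
  obtain ⟨e⟩ := equiv_of_simple hC1 h hW hs hna
  refine ⟨W, hW, ⟨e⟩, ?_⟩
  by_contra hC
  obtain ⟨W', hWC, hW', hs', hna'⟩ := key (Subgroup.centralizer (W : Set Y)) inferInstance hC
  obtain ⟨e'⟩ := equiv_of_simple hC1 h hW' hs' hna'
  have hcomm : ∀ (a : W) (b : W'), Commute (a : Y) (b : Y) := by
    intro a b
    exact Subgroup.mem_centralizer_iff.1 (hWC b.2) a a.2
  have hinf : W ⊓ W' = ⊥ := by
    rw [eq_bot_iff, ← inf_cent hs hna]
    exact inf_le_inf_left _ hWC
  let f : W × W' →* Y := MonoidHom.noncommCoprod W.subtype W'.subtype hcomm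
  have hf : ∀ q : W × W', f q = q.1 * q.2 := fun q => rfl
  have hinj : Function.Injective f := by
    rw [injective_iff_map_eq_one]
    rintro ⟨a, b⟩ hq
    rw [hf] at hq
    have h1 : (a : Y) = (b : Y)⁻¹ := mul_eq_one_iff_eq_inv.1 hq
    have h2 : (a : Y) ∈ W ⊓ W' := ⟨a.2, by rw [h1]; exact W'.inv_mem b.2⟩
    rw [hinf, Subgroup.mem_bot] at h2
    have h3 : (b : Y) = 1 := by rw [h2, one_mul] at hq; exact hq
    exact Prod.ext (Subtype.ext h2) (Subtype.ext h3)
  have hn : f.range.Normal := by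
    refine ⟨?_⟩
    rintro _ ⟨⟨a, b⟩, rfl⟩ g
    refine ⟨⟨⟨g * a * g⁻¹, hW.conj_mem _ a.2 g⟩, ⟨g * b * g⁻¹, hW'.conj_mem _ b.2 g⟩⟩, ?_⟩
    rw [hf, hf]
    change g * a * g⁻¹ * (g * b * g⁻¹) = g * (a * b) * g⁻¹
    group
  -- the largest degree
  have hfin : (D n).Finite := by
    apply (Set.finite_Iic (Nat.card (An n))).subset
    intro d hd
    exact Nat.le_of_dvd Nat.card_pos (dvd_card hd)
  obtain ⟨b, hb⟩ := hfin.exists_maximal ⟨1, one_mem_degrees⟩
  have hb1 : b * b ∈ charDegrees f.range := by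
    rw [← charDegrees_congr (((e.prodCongr e').symm).trans (MonoidHom.ofInjective hinj))]
    exact mul_mem_prod hb.prop hb.prop
  obtain ⟨d, hd, hbd, -⟩ := clifford_up f.range hb1
  have hd' := h hd
  have hle := Nat.le_of_dvd (pos_of_mem hd') hbd
  have hb0 := pos_of_mem hb.prop
  have hdb : d ≤ b := hb.le_of_ge hd' (by nlinarith)
  have hb2 : b = 1 := by nlinarith
  apply hna
  refine ⟨⟨fun x y => e.injective ?_⟩⟩
  rw [map_mul, map_mul]
  refine comm_of_degrees (fun c hc => ?_) _ _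
  have hc0 := pos_of_mem hc
  have := hb.le_of_ge hc (by omega)
  omega

end

end Cfsg.Agent.H212.AN
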